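import Cfsg.Agent.H771.PSq.ClaimOf
import Cfsg.Agent.H671.FactRows
import Cfsg.Agent.S0000

/-!
# S4844, PS-9c: the claim (helper771)
-/

set_option autoImplicit false

open Cfsg

namespace Cfsg.Agent.H771.PSq

open Cfsg.Agent.H696.PSq

universe u

variable {p : ℕ}

theorem factExt : H671.H5.FactExt.{u} :=
  H671.FactRows.factExt fun X _ _ _ => Cfsg.Agent.S0000.result (G := X)

/-- **PS-9c.** -/
theorem claim [hp : Fact p.Prime] (hIM : FactIM.{u} p) {Γ : Type u} [Group Γ] [Finite Γ]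
    (T : Subgroup Γ) [T.Normal] (hs : IsSimpleGroup T) (hna : ¬ IsMulCommutative T) (hpT : ¬ p ∣ Nat.card T)
    (hC : Subgroup.centralizer (T : Set Γ) = ⊥)
    (h : ∀ χ : Γ → ℂ, IsIrrCharacter Γ χ → (∃ t ∈ T, χ t ≠ χ 1) → ¬ p ∣ charDegree χ) : ¬ p ∣ Nat.card Γ :=
  claim_of factExt hIM T hs hna hpT hC h

/-- **PS-9c** for a group in which `C(T)` may be non-trivial. -/
theorem claim' [hp : Fact p.Prime] (hIM : FactIM.{u} p) {N : Type u} [Group N] [Finite N]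
    (T : Subgroup N) [T.Normal] (hs : IsSimpleGroup T) (hna : ¬ IsMulCommutative T) (hpT : ¬ p ∣ Nat.card T)
    (h : ∀ χ : N → ℂ, IsIrrCharacter N χ → (∀ c ∈ Subgroup.centralizer (T : Set N), χ c = χ 1) →
      (∃ t ∈ T, χ t ≠ χ 1) → ¬ p ∣ charDegree χ) : ¬ p ∣ (Subgroup.centralizer (T : Set N)).index :=
  claim_of' factExt hIM T hs hna hpT h

end Cfsg.Agent.H771.PSq
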