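import Cfsg.Agent.H696.PSq.Defs
import Cfsg.Agent.H671.H5Facts
import Cfsg.Agent.H596.OneNonab
import Cfsg.Agent.H596.FldFacts
import Cfsg.Agent.H558.CsBasic
import Cfsg.Agent.H687.Theta
import Cfsg.Agent.S0887
import Cfsg.Agent.CharactersDeep.MaxInduced

/-!
# S4844, PS-9c: the claim (helper771)

`T` is a non-abelian simple normal subgroup of `Γ`, `C_Γ(T) = 1`, `p` does not divide `|T|`, and every irreducible
character of `Γ` with `T` not in its kernel has degree prime to `p`: then `p` does not divide `|Γ|`.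

Proof: some character `θ` of `T` of degree `≠ 1` extends to `Aut T`, hence to `ψ ∈ Irr(Γ)`; for `β ∈ Irr(Γ/T)` the
product `ψ β` is irreducible (Gallagher), so `p` does not divide `β(1)`; by Itô-Michler `Γ/T` has a normal Sylow
`p`-subgroup and `M = P T` is normal; every irreducible character of `T` is `M`-invariant, so `P` fixes all classes of
`T` and centralizes `T`.
-/

set_option autoImplicit false

open Cfsg

namespace Cfsg.Agent.H771.PSq

open Cfsg.Agent.Characters.Core Cfsg.Agent.H696.PSq Cfsg.Agent.H596.OneNonab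

universe u

variable {p : ℕ}

/-- Over a normal subgroup of `p`-power index a character of degree prime to `p` restricts irreducibly. -/
theorem res_eq (hp : p.Prime) {M : Type u} [Group M] [Fintype M] (N : Subgroup M) [N.Normal] [Fintype N]
    (hN : ∃ k, N.index = p ^ k) {χ : M → ℂ} (hχ : IsIrrCharacter M χ) {θ : N → ℂ} (hθ : IsIrrCharacter N θ)
    (h : classInner (fun n : N => χ n) θ ≠ 0) (hd : ¬ p ∣ charDegree χ) : (fun n : N => χ n) = θ := by
  obtain ⟨k, hk⟩ := hN
  obtain ⟨h1, h2⟩ := S0887.result N χ hχ θ hθ h (charDegree χ) (charDegree θ) (Blocks.Knorr.charDegree_eq hχ)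
    (Blocks.Knorr.charDegree_eq hθ)
  have h0 : charDegree χ ≠ 0 := (Blocks.Basic.charDegree_pos hχ).ne'
  have h3 : charDegree χ / charDegree θ = 1 := by
    rw [hk] at h2
    obtain ⟨j, -, hj⟩ := (Nat.dvd_prime_pow hp).1 h2
    rcases Nat.eq_zero_or_pos j with hj0 | hj0
    · rw [hj, hj0, pow_zero]
    · exfalso
      apply hd
      have h4 : charDegree χ / charDegree θ ∣ charDegree χ := Nat.div_dvd_of_dvd h1
      exact (dvd_pow_self p hj0.ne').trans (hj ▸ h4)
  have h5 : charDegree χ = charDegree θ := by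
    have h6 := Nat.div_mul_cancel h1
    rw [h3, one_mul] at h6
    exact h6.symm
  have hc : IsCharacter N (fun n : N => χ n) :=
    isCharacter_comp N.subtype (isIrr_isCharacter hχ)
  have h6 := OddOrderCharacters.Clifford.isCharacter_sub_irr hc hθ h
  have h7 := H687.eq_zero_of_one h6 (by
    show χ ((1 : N) : M) - θ 1 = 0
    rw [show ((1 : N) : M) = 1 from rfl, Blocks.Knorr.charDegree_eq hχ, Blocks.Knorr.charDegree_eq hθ, h5, sub_self])
  exact sub_eq_zero.1 h7

/-- the irreducible characters of `T` are invariant under `M` -/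
theorem invariant (hp : p.Prime) {Γ : Type u} [Group Γ] [Finite Γ] (T : Subgroup Γ) [hT : T.Normal]
    (M : Subgroup Γ) [M.Normal] (hTM : T ≤ M) (hidx : ∃ k, T.relIndex M = p ^ k)
    (h : ∀ χ : Γ → ℂ, IsIrrCharacter Γ χ → (∃ t ∈ T, χ t ≠ χ 1) → ¬ p ∣ charDegree χ)
    {θ : T → ℂ} (hθ : IsIrrCharacter T θ) (g : Γ) (hg : g ∈ M) (t : T) :
    θ ⟨g * t * g⁻¹, hT.conj_mem t t.2 g⟩ = θ t := by
  classical
  by_cases hθ1 : θ = 1
  · rw [hθ1]; rfl
  have := Fintype.ofFinite Γ
  have := Fintype.ofFinite M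
  have := Fintype.ofFinite T
  have := Fintype.ofFinite (T.subgroupOf M)
  let e : T.subgroupOf M ≃* T := Subgroup.subgroupOfEquivOfLe hTM
  have hθ' : IsIrrCharacter (T.subgroupOf M) (θ ∘ e) := isIrr_comp (e : T.subgroupOf M →* T) e.surjective hθ
  have hθ'1 : θ ∘ e ≠ 1 := by
    intro h1
    apply hθ1
    funext x
    have h2 := congrFun h1 (e.symm x)
    rw [Function.comp_apply, e.apply_symm_apply] at h2
    exact h2
  obtain ⟨ψ, hψ⟩ := Blocks.Over.exists_over (T.subgroupOf M) ⟨θ ∘ e, hθ'⟩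
  obtain ⟨χ, hχ⟩ := Blocks.Over.exists_over M ψ
  have hχT : ∃ t ∈ T, (χ : Γ → ℂ) t ≠ (χ : Γ → ℂ) 1 := by
    by_contra hcon
    push Not at hcon
    have hc : IsCharacter M (fun n : M => (χ : Γ → ℂ) n) := isCharacter_comp M.subtype (isIrr_isCharacter χ.2)
    have h1 := OddOrderCharacters.Clifford.isCharacter_sub_irr hc ψ.2 hχ
    have h2 : IsCharacter (T.subgroupOf M) (fun n : T.subgroupOf M =>
        ((fun n : M => (χ : Γ → ℂ) n) - (ψ : M → ℂ)) n) := isCharacter_comp (T.subgroupOf M).subtype h1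
    have h3 : IsCharacter (T.subgroupOf M) (fun n : T.subgroupOf M => (ψ : M → ℂ) n) :=
      isCharacter_comp (T.subgroupOf M).subtype (isIrr_isCharacter ψ.2)
    obtain ⟨a, ha⟩ := classInner_isNat h2 (isIrr_isCharacter hθ')
    obtain ⟨b, hb⟩ := classInner_isNat h3 (isIrr_isCharacter hθ')
    have h4 : classInner (fun n : T.subgroupOf M => (ψ : M → ℂ) n) (θ ∘ e) +
        classInner (fun n : T.subgroupOf M => ((fun n : M => (χ : Γ → ℂ) n) - (ψ : M → ℂ)) n) (θ ∘ e) = 0 := by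
      rw [← classInner_add_left]
      have h5 : ((fun n : T.subgroupOf M => (ψ : M → ℂ) n) +
          (fun n : T.subgroupOf M => ((fun n : M => (χ : Γ → ℂ) n) - (ψ : M → ℂ)) n)) =
          (χ : Γ → ℂ) 1 • (1 : T.subgroupOf M → ℂ) := by
        funext n
        show (ψ : M → ℂ) n + ((χ : Γ → ℂ) n - (ψ : M → ℂ) n) = (χ : Γ → ℂ) 1 * 1
        rw [add_sub_cancel, mul_one]
        exact hcon n n.2
      rw [h5, classInner_smul_left, classInner_irr_ne isIrr_one hθ' (Ne.symm hθ'1), mul_zero]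
    apply hψ
    show classInner (fun n : T.subgroupOf M => (ψ : M → ℂ) n) (θ ∘ e) = 0
    rw [ha, hb] at h4
    rw [hb]
    have h5 : b + a = 0 := by exact_mod_cast h4
    have h6 : b = 0 := by omega
    rw [h6, Nat.cast_zero]
  have hd : ¬ p ∣ charDegree (ψ : M → ℂ) := fun hd =>
    h χ χ.2 hχT (hd.trans (H670.PSing.degree_dvd_of_over M ψ.2 χ.2 hχ))
  have hres := res_eq hp (T.subgroupOf M) hidx ψ.2 hθ' hψ hd
  have key : ∀ x : T, θ x = (ψ : M → ℂ) ⟨x, hTM x.2⟩ := by
    intro x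
    have h1 := congrFun hres (e.symm x)
    rw [Function.comp_apply, e.apply_symm_apply] at h1
    exact h1.symm
  rw [key, key]
  exact isIrr_isClassFunction ψ.2 (⟨t, hTM t.2⟩ : M) ⟨g, hg⟩

/-- an element of order `p` of `Γ` which fixes the irreducible characters of `T` centralizes `T` -/
theorem mem_centralizer {Γ : Type u} [Group Γ] [Finite Γ] (T : Subgroup Γ) [hT : T.Normal]
    (hpT : ¬ p ∣ Nat.card T) (hp : p.Prime) {g : Γ} (hg : orderOf g = p)
    (h : ∀ θ : T → ℂ, IsIrrCharacter T θ → ∀ t : T, θ ⟨g * t * g⁻¹, hT.conj_mem t t.2 g⟩ = θ t) :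
    g ∈ Subgroup.centralizer (T : Set Γ) := by
  classical
  let α : MulAut T := MulAut.conjNormal g
  have hα : ∀ x : T, α x = ⟨g * x * g⁻¹, hT.conj_mem x x.2 g⟩ := fun x => Subtype.ext (MulAut.conjNormal_apply g x)
  have key : α = 1 → g ∈ Subgroup.centralizer (T : Set Γ) := by
    intro h1
    rw [Subgroup.mem_centralizer_iff]
    intro x hx
    have h2 := DFunLike.congr_fun h1 (⟨x, hx⟩ : T)
    rw [hα] at h2
    have h3 : g * x * g⁻¹ = x := congrArg Subtype.val h2
    rw [mul_inv_eq_iff_eq_mul] at h3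
    exact h3.symm
  by_cases h1 : α = 1
  · exact key h1
  apply key
  have h2 : orderOf α = p := by
    have h3 : orderOf α ∣ p := by
      rw [← hg]
      exact orderOf_map_dvd (MulAut.conjNormal : Γ →* MulAut T) g
    rcases (Nat.dvd_prime hp).1 h3 with h4 | h4
    · exact absurd (orderOf_eq_one_iff.1 h4) h1
    · exact h4
  have h3 : ∀ x : T, IsConj (α x) x := by
    intro x
    rw [Characters.GaloisIrr.isConj_iff_forall_irr]
    intro χ hχ
    rw [hα]
    exact h χ hχ x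
  have h4 : H596.Fld.fx α = ⊤ := by
    refine H558.Cs.eq_top_of_conj_cover _ fun x => ?_
    by_contra hcon
    refine H596.Fld.not_isConj (by rw [h2]; exact hp) (by rw [h2]; exact hpT) (x := x) ?_ (h3 x)
    intro y hy hxy
    obtain ⟨c, hc⟩ := isConj_iff.1 hxy
    apply hcon
    refine ⟨c⁻¹, ?_⟩
    rw [inv_inv, hc]
    exact hy
  ext x
  have h5 : x ∈ H596.Fld.fx α := h4 ▸ Subgroup.mem_top x
  exact congrArg Subtype.val (H596.Fld.mem_fx.1 h5)

/-- **PS-9c** from `FactExt`. -/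
theorem claim_of [hp : Fact p.Prime] (hE : H671.H5.FactExt.{u}) (hIM : FactIM.{u} p) {Γ : Type u} [Group Γ] [Finite Γ]
    (T : Subgroup Γ) [hT : T.Normal] (hs : IsSimpleGroup T) (hna : ¬ IsMulCommutative T) (hpT : ¬ p ∣ Nat.card T)
    (hC : Subgroup.centralizer (T : Set Γ) = ⊥)
    (h : ∀ χ : Γ → ℂ, IsIrrCharacter Γ χ → (∃ t ∈ T, χ t ≠ χ 1) → ¬ p ∣ charDegree χ) : ¬ p ∣ Nat.card Γ := by
  classical
  intro hd
  obtain ⟨θ, hθ1, ψ, hψ⟩ := hE T hna
  -- the extension
  let κ : Γ →* MulAut T := MulAut.conjNormal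
  have hκ : ∀ t : T, κ (t : Γ) = MulAut.conj t := by
    intro t
    ext x
    rw [show κ (t : Γ) = (MulAut.conjNormal (t : Γ) : MulAut T) from rfl, MulAut.conjNormal_apply, MulAut.conj_apply]
    rfl
  have hres : ∀ t : T, (ψ : MulAut T → ℂ) (κ (t : Γ)) = (θ : T → ℂ) t := fun t => by rw [hκ, hψ]
  have hfin : Finite (MulAut T) := inferInstance
  have hψΓ : IsIrrCharacter Γ ((ψ : MulAut T → ℂ) ∘ κ) := by
    refine CharactersDeep.MaxInduced.isIrr_of_comp T.subtype (isCharacter_comp κ (isIrr_isCharacter ψ.2)) ?_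
    have h1 : ((ψ : MulAut T → ℂ) ∘ κ) ∘ T.subtype = (θ : T → ℂ) := funext hres
    rw [h1]
    exact θ.2
  -- `θ` is not constant
  obtain ⟨s, hs1⟩ : ∃ s : T, (θ : T → ℂ) s ≠ (θ : T → ℂ) 1 := by
    by_contra hcon
    push Not at hcon
    have : Fintype T := Fintype.ofFinite T
    have hne1 : (θ : T → ℂ) ≠ 1 := by
      intro h1
      apply hθ1
      rw [h1]
      exact H670.PSing.charDegree_eq_of (by rw [Pi.one_apply, Nat.cast_one])
    have h1 := classInner_irr_ne θ.2 (isIrr_one (G := T)) hne1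
    have h2 : (θ : T → ℂ) = (θ : T → ℂ) 1 • (1 : T → ℂ) := by
      funext t
      rw [hcon t, Pi.smul_apply, Pi.one_apply, smul_eq_mul, mul_one]
    rw [h2, classInner_smul_left, classInner_irr_self (isIrr_one (G := T)), mul_one] at h1
    exact isIrr_apply_one_ne_zero θ.2 h1
  -- `Γ/T`
  have hq : ¬ H33.IM p (Γ ⧸ T) := by
    rintro ⟨β, hβp⟩
    have hβ' : IsIrrCharacter Γ ((β : Γ ⧸ T → ℂ) ∘ QuotientGroup.mk' T) :=
      isIrr_comp _ (QuotientGroup.mk'_surjective T) β.2
    have hβN : ∀ k ∈ T, ((β : Γ ⧸ T → ℂ) ∘ QuotientGroup.mk' T) k = ((β : Γ ⧸ T → ℂ) ∘ QuotientGroup.mk' T) 1 := by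
      intro k hk
      show (β : Γ ⧸ T → ℂ) (QuotientGroup.mk' T k) = (β : Γ ⧸ T → ℂ) (QuotientGroup.mk' T 1)
      rw [map_one, show QuotientGroup.mk' T k = 1 from (QuotientGroup.eq_one_iff k).2 hk]
    have hψT : IsIrrCharacter T (fun n : T => ((ψ : MulAut T → ℂ) ∘ κ) n) := by
      have h1 : (fun n : T => ((ψ : MulAut T → ℂ) ∘ κ) n) = (θ : T → ℂ) := funext hres
      rw [h1]
      exact θ.2
    have hprod := H597.FrobC.isIrr_mul_of_restrict T hψΓ hψT hβ' hβN
    have hβ1 : ((β : Γ ⧸ T → ℂ) ∘ QuotientGroup.mk' T) 1 = charDegree (β : Γ ⧸ T → ℂ) := by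
      show (β : Γ ⧸ T → ℂ) (QuotientGroup.mk' T 1) = _
      rw [map_one, Blocks.Knorr.charDegree_eq β.2]
    have hβ0 : ((β : Γ ⧸ T → ℂ) ∘ QuotientGroup.mk' T) 1 ≠ 0 := isIrr_apply_one_ne_zero hβ'
    refine h _ hprod ⟨s, s.2, ?_⟩ ?_
    · rw [Pi.mul_apply, Pi.mul_apply, hβN s s.2]
      intro h1
      apply hs1
      have h2 := mul_left_cancel₀ hβ0 h1
      have h3 : ((ψ : MulAut T → ℂ) ∘ κ) (s : Γ) = (θ : T → ℂ) s := hres s
      have h4 : ((ψ : MulAut T → ℂ) ∘ κ) (1 : Γ) = (θ : T → ℂ) 1 := hres 1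
      rw [← h3, ← h4, h2]
    · have hd2 : charDegree ((β : Γ ⧸ T → ℂ) ∘ QuotientGroup.mk' T * ((ψ : MulAut T → ℂ) ∘ κ)) =
          charDegree (β : Γ ⧸ T → ℂ) * charDegree ((ψ : MulAut T → ℂ) ∘ κ) := by
        apply H670.PSing.charDegree_eq_of
        rw [Pi.mul_apply, hβ1, Blocks.Knorr.charDegree_eq hψΓ, Nat.cast_mul]
      rw [hd2]
      exact hβp.mul_right _
  -- the Sylow subgroup
  obtain ⟨g, hg⟩ := exists_prime_orderOf_dvd_card' p hd
  obtain ⟨P, hgP⟩ : ∃ P : Sylow p Γ, g ∈ (P : Subgroup Γ) := by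
    have h1 : IsPGroup p (Subgroup.zpowers g) := by
      apply IsPGroup.of_card (n := 1)
      rw [Nat.card_zpowers, hg, pow_one]
    obtain ⟨P, hP⟩ := h1.exists_le_sylow
    exact ⟨P, hP (Subgroup.mem_zpowers g)⟩
  have hsurj := QuotientGroup.mk'_surjective T
  have hPn := (hIM (Γ ⧸ T) hq (P.mapSurjective hsurj)).1
  rw [Sylow.coe_mapSurjective] at hPn
  let M : Subgroup Γ := ((P : Subgroup Γ).map (QuotientGroup.mk' T)).comap (QuotientGroup.mk' T)
  have hM : M.Normal := hPn.comap _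
  have hMeq : M = T ⊔ (P : Subgroup Γ) := by
    show ((P : Subgroup Γ).map (QuotientGroup.mk' T)).comap (QuotientGroup.mk' T) = _
    rw [Subgroup.comap_map_eq, QuotientGroup.ker_mk', sup_comm]
  have hTM : T ≤ M := hMeq ▸ le_sup_left
  have hidx : ∃ k, T.relIndex M = p ^ k := by
    rw [hMeq, Subgroup.relIndex_sup_left]
    obtain ⟨j, hj⟩ := P.isPGroup'.exists_card_eq
    obtain ⟨k, -, hk⟩ := (Nat.dvd_prime_pow hp.out).1 (hj ▸ Subgroup.relIndex_dvd_card T (P : Subgroup Γ))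
    exact ⟨k, hk⟩
  have hgC : g ∈ Subgroup.centralizer (T : Set Γ) :=
    mem_centralizer T hpT hp.out hg fun θ' hθ' t =>
      invariant hp.out T M hTM hidx h hθ' g (hMeq ▸ Subgroup.mem_sup_right hgP) t
  rw [hC, Subgroup.mem_bot] at hgC
  rw [hgC, orderOf_one] at hg
  exact hp.out.one_lt.ne hg

/-- **PS-9c** from `FactExt`, for a group in which `C(T)` may be non-trivial. -/
theorem claim_of' [hp : Fact p.Prime] (hE : H671.H5.FactExt.{u}) (hIM : FactIM.{u} p) {N : Type u} [Group N] [Finite N]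
    (T : Subgroup N) [hT : T.Normal] (hs : IsSimpleGroup T) (hna : ¬ IsMulCommutative T) (hpT : ¬ p ∣ Nat.card T)
    (h : ∀ χ : N → ℂ, IsIrrCharacter N χ → (∀ c ∈ Subgroup.centralizer (T : Set N), χ c = χ 1) →
      (∃ t ∈ T, χ t ≠ χ 1) → ¬ p ∣ charDegree χ) : ¬ p ∣ (Subgroup.centralizer (T : Set N)).index := by
  classical
  let C : Subgroup N := Subgroup.centralizer (T : Set N)
  have hCn : C.Normal := inferInstanceAs (Subgroup.centralizer (T : Set N)).Normal
  let π : N →* N ⧸ C := QuotientGroup.mk' C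
  have hπ : Function.Surjective π := QuotientGroup.mk'_surjective C
  let T' : Subgroup (N ⧸ C) := T.map π
  have hT' : T'.Normal := hT.map π hπ
  -- `T ⊓ C = 1`
  have hTC : ∀ t ∈ T, t ∈ C → t = 1 := by
    intro t ht htC
    have hZ : Subgroup.center T = ⊥ := by
      rcases hs.eq_bot_or_eq_top_of_normal (Subgroup.center T) inferInstance with h1 | h1
      · exact h1
      · exfalso
        apply hna
        refine ⟨⟨fun x y => ?_⟩⟩
        have h2 : y ∈ Subgroup.center T := h1 ▸ Subgroup.mem_top y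
        exact Subgroup.mem_center_iff.1 h2 x
    have h1 : (⟨t, ht⟩ : T) ∈ Subgroup.center T := by
      rw [Subgroup.mem_center_iff]
      intro x
      exact Subtype.ext (Subgroup.mem_centralizer_iff.1 htC x x.2)
    rw [hZ, Subgroup.mem_bot] at h1
    exact congrArg Subtype.val h1
  have hmem : ∀ t : T, π t ∈ T' := fun t => Subgroup.mem_map_of_mem π t.2
  let f : T →* T' := (π.comp T.subtype).codRestrict T' hmem
  have hf : Function.Bijective f := by
    constructor
    · rw [injective_iff_map_eq_one]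
      intro t ht
      have h1 : π (t : N) = 1 := congrArg Subtype.val ht
      have h2 : (t : N) ∈ C := (QuotientGroup.eq_one_iff _).1 h1
      exact Subtype.ext (hTC t t.2 h2)
    · rintro ⟨_, t, ht, rfl⟩
      exact ⟨⟨t, ht⟩, rfl⟩
  let e : T ≃* T' := MulEquiv.ofBijective f hf
  have hs' : IsSimpleGroup T' := by
    have : Nontrivial T' := e.symm.toEquiv.nontrivial
    exact IsSimpleGroup.isSimpleGroup_of_surjective e.toMonoidHom e.surjective
  have hna' : ¬ IsMulCommutative T' := fun hc => hna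
    ⟨⟨fun x y => e.injective (by rw [map_mul, map_mul]; exact hc.is_comm.comm _ _)⟩⟩
  have hpT' : ¬ p ∣ Nat.card T' := by rwa [← Nat.card_congr e.toEquiv]
  have hC' : Subgroup.centralizer (T' : Set (N ⧸ C)) = ⊥ := by
    rw [eq_bot_iff]
    intro x hx
    obtain ⟨n, rfl⟩ := hπ x
    rw [Subgroup.mem_bot]
    show π n = 1
    refine (QuotientGroup.eq_one_iff _).2 ?_
    rw [Subgroup.mem_centralizer_iff]
    intro t ht
    have h1 := Subgroup.mem_centralizer_iff.1 hx (π t) (Subgroup.mem_map_of_mem π ht)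
    have h2 : π (t⁻¹ * (n * t * n⁻¹)) = 1 := by
      rw [map_mul, map_mul, map_mul, map_inv, map_inv, ← h1]
      group
    have h3 := hTC _ (T.mul_mem (T.inv_mem ht) (hT.conj_mem t ht n)) ((QuotientGroup.eq_one_iff _).1 h2)
    rw [inv_mul_eq_one, eq_mul_inv_iff_mul_eq] at h3
    exact h3
  have key := claim_of hE hIM T' hs' hna' hpT' hC' (by
    rintro χ hχ ⟨_, ⟨t, ht, rfl⟩, hne⟩ hd
    have h1 : IsIrrCharacter N (χ ∘ π) := isIrr_comp π hπ hχ
    refine h _ h1 ?_ ⟨t, ht, ?_⟩ ?_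
    · intro c hc
      show χ (π c) = χ (π 1)
      rw [map_one, show π c = 1 from (QuotientGroup.eq_one_iff _).2 hc]
    · show χ (π t) ≠ χ (π 1)
      rw [map_one]
      exact hne
    · have h2 : charDegree (χ ∘ π) = charDegree χ := by
        unfold charDegree
        rw [Function.comp_apply, map_one]
      rwa [h2])
  rwa [← Subgroup.index_eq_card] at key

end Cfsg.Agent.H771.PSq
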